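import Mathlib.RingTheory.GradedAlgebra.HomogeneousLocalization
import Mathlib.RingTheory.FinitePresentation
import Mathlib

/-!
# Finite presentation of degree-zero localisations through `A ⧸ (f - 1)`

`A ⧸ (f - 1)` is finite over `A_(f)` and contains each `A(n)_(f)` as a direct summand.
-/

set_option autoImplicit false
set_option linter.style.haveILetI false
set_option linter.unusedSectionVars false
set_option backward.isDefEq.respectTransparency.types false
set_option maxHeartbeats 1000000
set_option synthInstance.maxHeartbeats 400000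

universe u

open HomogeneousLocalization DirectSum

namespace Groth.Agent.ProjFP28

variable {A σ : Type u} [CommRing A] [SetLike σ A] [AddSubgroupClass σ A] {𝒜 : ℕ → σ} [GradedRing 𝒜]
  {e : ℕ} {f : A} (hf : f ∈ 𝒜 e)

/-- `A ⧸ (f - 1)`. -/
abbrev C (f : A) : Type u := A ⧸ Ideal.span {f - 1}

/-- The localisation at `f`. -/
abbrev L (f : A) : Type u := Localization (Submonoid.powers f)

/-- `f = 1` in the quotient. -/
theorem mk_self (f : A) : Ideal.Quotient.mk (Ideal.span {f - 1}) f = 1 := by
  rw [← map_one (Ideal.Quotient.mk (Ideal.span {f - 1})), Ideal.Quotient.eq]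
  exact Ideal.subset_span rfl

/-- `f ↦ 1`. -/
noncomputable def theta (f : A) : L f →+* C f :=
  IsLocalization.Away.lift f (g := Ideal.Quotient.mk (Ideal.span {f - 1})) (by rw [mk_self]; exact isUnit_one)

theorem theta_algebraMap (a : A) : theta f (algebraMap A (L f) a) = Ideal.Quotient.mk _ a :=
  IsLocalization.Away.lift_eq f _ a

/-- The unit `f`. -/
noncomputable def uf (f : A) : (L f)ˣ := (IsLocalization.Away.algebraMap_isUnit (S := L f) f).unit

theorem coe_uf (f : A) : (uf f : L f) = algebraMap A (L f) f := IsUnit.unit_spec _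

theorem theta_uf_zpow (j : ℤ) : theta f ((uf f ^ j : (L f)ˣ) : L f) = 1 := by
  have h1 : Units.map (theta f).toMonoidHom (uf f) = 1 := Units.ext (by
    show theta f (uf f : L f) = 1
    rw [coe_uf, theta_algebraMap, mk_self])
  show ((Units.map (theta f).toMonoidHom (uf f ^ j) : (C f)ˣ) : C f) = 1
  rw [map_zpow, h1, one_zpow, Units.val_one]

/-- The coefficient placing degree `i` in `A(n)_(f)`. -/
noncomputable def coef (f : A) (e : ℕ) (n : ℤ) (i : ℕ) : L f :=
  if (e : ℤ) ∣ ((i : ℤ) - n) then ((uf f ^ (-(((i : ℤ) - n) / e)) : (L f)ˣ) : L f) else 0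

theorem coef_add (he : 0 < e) (n : ℤ) (i : ℕ) :
    coef f e n (i + e) * algebraMap A (L f) f = coef f e n i := by
  have h1 : ((i + e : ℕ) : ℤ) - n = ((i : ℤ) - n) + e := by push_cast; ring
  have hiff : (e : ℤ) ∣ ((i + e : ℕ) : ℤ) - n ↔ (e : ℤ) ∣ (i : ℤ) - n := by
    rw [h1]; exact dvd_add_self_right
  unfold coef
  by_cases h : (e : ℤ) ∣ (i : ℤ) - n
  · rw [if_pos h, if_pos (hiff.2 h), ← coe_uf, ← Units.val_mul, ← zpow_add_one]
    congr 2
    rw [h1, Int.add_ediv_of_dvd_left h, Int.ediv_self (by omega)]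
    ring
  · rw [if_neg h, if_neg (fun h' => h (hiff.1 h')), zero_mul]

variable (𝒜) in
/-- `a ↦ Σ a_i / f^((i-n)/e)`. -/
noncomputable def psi (f : A) (e : ℕ) (n : ℤ) : A →+ L f :=
  (DirectSum.toAddMonoid fun i =>
    (AddMonoidHom.mulRight (coef f e n i)).comp
      ((algebraMap A (L f)).toAddMonoidHom.comp (AddSubmonoidClass.subtype (𝒜 i)))).comp
    (DirectSum.decomposeAddEquiv 𝒜).toAddMonoidHom

theorem psi_of (n : ℤ) {i : ℕ} {a : A} (ha : a ∈ 𝒜 i) :
    psi 𝒜 f e n a = algebraMap A (L f) a * coef f e n i := by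
  simp only [psi, AddMonoidHom.comp_apply, AddEquiv.coe_toAddMonoidHom, DirectSum.decomposeAddEquiv_apply]
  rw [DirectSum.decompose_of_mem 𝒜 ha, DirectSum.toAddMonoid_of]
  rfl

include hf in
theorem psi_mul_f (he : 0 < e) (n : ℤ) (a : A) : psi 𝒜 f e n (a * f) = psi 𝒜 f e n a := by
  induction a using DirectSum.Decomposition.inductionOn (ℳ := 𝒜) with
  | zero => rw [zero_mul]
  | @homogeneous i x =>
    rw [psi_of n x.2, psi_of n (SetLike.mul_mem_graded x.2 hf), map_mul, ← coef_add he n i]
    ring
  | add x y hx hy => rw [add_mul, map_add, map_add, hx, hy]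

theorem psi_zero_deg (n : ℤ) {r : A} (hr : r ∈ 𝒜 0) (a : A) :
    psi 𝒜 f e n (r * a) = algebraMap A (L f) r * psi 𝒜 f e n a := by
  induction a using DirectSum.Decomposition.inductionOn (ℳ := 𝒜) with
  | zero => rw [mul_zero, map_zero, mul_zero]
  | @homogeneous i x =>
    have hm : r * (x : A) ∈ 𝒜 i := by simpa using SetLike.mul_mem_graded hr x.2
    rw [psi_of n x.2, psi_of n hm, map_mul, mul_assoc]
  | add x y hx hy => rw [mul_add, map_add, map_add, hx, hy, mul_add]

include hf in
theorem psi_kills (he : 0 < e) (n : ℤ) {a : A} (ha : a ∈ Ideal.span {f - 1}) : psi 𝒜 f e n a = 0 := by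
  obtain ⟨c, rfl⟩ := Ideal.mem_span_singleton'.1 ha
  rw [mul_sub, mul_one, map_sub, psi_mul_f hf he, sub_self]

/-- `psi` on the quotient. -/
noncomputable def psiC (he : 0 < e) (n : ℤ) : C f →+ L f :=
  QuotientAddGroup.lift (Ideal.span {f - 1}).toAddSubgroup (psi 𝒜 f e n) fun _ ha => psi_kills hf he n ha

theorem psiC_mk (he : 0 < e) (n : ℤ) (a : A) :
    psiC hf he n (Ideal.Quotient.mk _ a) = psi 𝒜 f e n a := rfl

include hf in
/-- Multiplication by a fraction of degree zero commutes with `psi`. -/
theorem psi_frac (he : 0 < e) (n : ℤ) {k : ℕ} {x : A} (hx : x ∈ 𝒜 (k • e)) (a : A) :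
    psi 𝒜 f e n (x * a) = (Away.mk 𝒜 hf k x hx).val * psi 𝒜 f e n a := by
  have key : ∀ (k i : ℕ), coef f e n (i + k * e) * algebraMap A (L f) f ^ k = coef f e n i := by
    intro k
    induction k with
    | zero => intro i; simp
    | succ k ih =>
      intro i
      rw [show i + (k + 1) * e = (i + k * e) + e by ring, pow_succ', ← mul_assoc, coef_add he, ih]
  induction a using DirectSum.Decomposition.inductionOn (ℳ := 𝒜) with
  | zero => rw [mul_zero, map_zero, mul_zero]
  | @homogeneous i a =>
    rw [psi_of n a.2, psi_of n (SetLike.mul_mem_graded hx a.2), map_mul]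
    refine ((IsLocalization.Away.algebraMap_isUnit (S := L f) f).pow k).mul_left_cancel ?_
    have hv : algebraMap A (L f) f ^ k * (Away.mk 𝒜 hf k x hx).val = algebraMap A (L f) x := by
      rw [Away.val_mk, Localization.mk_eq_mk', ← map_pow, mul_comm]
      exact IsLocalization.mk'_spec (L f) x (⟨f ^ k, k, rfl⟩ : Submonoid.powers f)
    rw [show k • e + i = i + k * e by rw [smul_eq_mul, add_comm], ← mul_assoc (algebraMap A (L f) f ^ k) _ (_ * _), hv,
      ← key k i]
    ring
  | add x y hx hy => rw [mul_add, map_add, map_add, hx, hy, mul_add]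

/-- The map `A_(f) → A ⧸ (f - 1)`. -/
noncomputable def phi (f : A) : Away 𝒜 f →+* C f :=
  (theta f).comp (algebraMap (Away 𝒜 f) (L f))

theorem phi_mk {k : ℕ} {x : A} (hx : x ∈ 𝒜 (k • e)) :
    phi f (Away.mk 𝒜 hf k x hx) = Ideal.Quotient.mk _ x := by
  show theta f (Away.mk 𝒜 hf k x hx).val = _
  rw [Away.val_mk, Localization.mk_eq_mk', ← theta_algebraMap x,
    ← IsLocalization.mk'_spec (L f) x (⟨f ^ k, k, rfl⟩ : Submonoid.powers f), map_mul]
  show _ = _ * theta f (algebraMap A (L f) (f ^ k))
  rw [theta_algebraMap, map_pow, mk_self, one_pow, mul_one]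

theorem psiC_phi_mul (he : 0 < e) (n : ℤ) (q : Away 𝒜 f) (c : C f) :
    psiC hf he n (phi f q * c) = q.val * psiC hf he n c := by
  obtain ⟨k, x, hx, rfl⟩ := Away.mk_surjective 𝒜 hf q
  obtain ⟨a, rfl⟩ := Ideal.Quotient.mk_surjective c
  rw [phi_mk, ← map_mul, psiC_mk, psiC_mk, psi_frac hf he n hx a]

theorem psiC_theta (he : 0 < e) (n : ℤ) (c : C f) :
    psiC hf he n (theta f (psiC hf he n c)) = psiC hf he n c := by
  obtain ⟨a, rfl⟩ := Ideal.Quotient.mk_surjective c
  induction a using DirectSum.Decomposition.inductionOn (ℳ := 𝒜) with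
  | zero => simp
  | @homogeneous i x =>
    rw [psiC_mk, psi_of n x.2, map_mul, theta_algebraMap, coef]
    by_cases h : (e : ℤ) ∣ (i : ℤ) - n
    · rw [if_pos h, theta_uf_zpow, mul_one, psiC_mk, psi_of n x.2, coef, if_pos h]
    · rw [if_neg h, map_zero, mul_zero, map_zero, mul_zero]
  | add x y hx hy => simp only [map_add, hx, hy]

/-- The algebra structure of `A ⧸ (f - 1)` over `A_(f)`. -/
noncomputable abbrev algC (f : A) : Algebra (Away 𝒜 f) (C f) := (phi f).toAlgebra

/-- `psiC` as a linear map. -/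
noncomputable def psiL (he : 0 < e) (n : ℤ) :
    letI := algC (𝒜 := 𝒜) f
    C f →ₗ[Away 𝒜 f] L f :=
  letI := algC (𝒜 := 𝒜) f
  { psiC hf he n with
    map_smul' := fun q c => by
      show psiC hf he n (q • c) = q • psiC hf he n c
      rw [Algebra.smul_def, Algebra.smul_def]
      exact psiC_phi_mul hf he n q c }

theorem psiC_zero_phi (he : 0 < e) (q : Away 𝒜 f) : psiC hf he 0 (phi f q) = q.val := by
  have h1 : psiC hf he 0 (1 : C f) = 1 := by
    rw [← map_one (Ideal.Quotient.mk (Ideal.span {f - 1})), psiC_mk,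
      psi_of 0 (SetLike.one_mem_graded 𝒜), map_one, one_mul, coef, if_pos (by simp)]
    simp
  have := psiC_phi_mul hf he 0 q 1
  rwa [mul_one, h1, mul_one] at this

theorem psiC_zero_range (he : 0 < e) (c : C f) : ∃ q : Away 𝒜 f, q.val = psiC hf he 0 c := by
  obtain ⟨a, rfl⟩ := Ideal.Quotient.mk_surjective c
  induction a using DirectSum.Decomposition.inductionOn (ℳ := 𝒜) with
  | zero => exact ⟨0, by simp⟩
  | @homogeneous i x =>
    rw [psiC_mk, psi_of 0 x.2, coef]
    by_cases h : (e : ℤ) ∣ (i : ℤ) - (0 : ℤ)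
    · rw [if_pos h]
      have h' : e ∣ i := by rw [sub_zero] at h; exact_mod_cast h
      obtain ⟨k, rfl⟩ := h'
      refine ⟨Away.mk 𝒜 hf k x (by rw [smul_eq_mul, mul_comm]; exact x.2), ?_⟩
      rw [Away.val_mk, Localization.mk_eq_mk']
      refine IsLocalization.mk'_eq_iff_eq_mul.2 ?_
      show _ = _ * algebraMap A (L f) (f ^ k)
      have hk : ((e * k : ℕ) : ℤ) / (e : ℤ) = k := by
        push_cast; rw [Int.mul_ediv_cancel_left _ (by omega)]
      rw [map_pow, ← coe_uf, ← Units.val_pow_eq_pow_val, mul_assoc, ← Units.val_mul, sub_zero, hk, zpow_neg,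
        zpow_natCast, inv_mul_cancel, Units.val_one, mul_one]
    · exact ⟨0, by rw [if_neg h]; simp⟩
  | add x y hx hy =>
    obtain ⟨p, hp⟩ := hx
    obtain ⟨q, hq⟩ := hy
    exact ⟨p + q, by rw [HomogeneousLocalization.val_add, hp, hq, map_add, map_add]⟩

variable {R : Type u} [CommRing R] [Algebra R A] (hR : ∀ r : R, algebraMap R A r ∈ 𝒜 0)

/-- The structure map into degree zero. -/
noncomputable def toZero : R →+* 𝒜 0 where
  toFun r := ⟨algebraMap R A r, hR r⟩
  map_one' := Subtype.ext (map_one _)
  map_mul' a b := Subtype.ext (map_mul _ a b)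
  map_zero' := Subtype.ext (map_zero _)
  map_add' a b := Subtype.ext (map_add _ a b)

/-- The structure map of `A_(f)`. -/
noncomputable def toAway (f : A) : R →+* Away 𝒜 f :=
  (fromZeroRingHom 𝒜 (Submonoid.powers f)).comp (toZero hR)

theorem phi_toAway (r : R) : phi f (toAway hR f r) = algebraMap R (C f) r := by
  show theta f (HomogeneousLocalization.val (fromZeroRingHom 𝒜 (Submonoid.powers f) ⟨algebraMap R A r, hR r⟩)) = _
  have h : HomogeneousLocalization.val (fromZeroRingHom 𝒜 (Submonoid.powers f) ⟨algebraMap R A r, hR r⟩) =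
      algebraMap A (L f) (algebraMap R A r) := by
    rw [← Localization.mk_one_eq_algebraMap]
    rfl
  rw [h, theta_algebraMap]
  rfl

/-- The degree `n` part of `A_f`, as a module over `A_(f)`. -/
noncomputable def twMod (he : 0 < e) (n : ℤ) : Submodule (Away 𝒜 f) (L f) :=
  letI := algC (𝒜 := 𝒜) f
  LinearMap.range (psiL hf he n)

/-- A direct summand of a finitely presented module. -/
theorem fp_summand {T : Type u} [CommRing T] {M N : Type u} [AddCommGroup M] [Module T M] [AddCommGroup N]
    [Module T N] [Module.FinitePresentation T M] (π : M →ₗ[T] N) (ι : N →ₗ[T] M) (h : ∀ x, π (ι x) = x) :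
    Module.FinitePresentation T N := by
  refine Module.finitePresentation_of_surjective π (fun x => ⟨_, h x⟩) ?_
  rw [show LinearMap.ker π = LinearMap.range (LinearMap.id - ι ∘ₗ π) from le_antisymm
    (fun x hx => ⟨x, by simp [LinearMap.mem_ker.1 hx]⟩) (by rintro _ ⟨x, rfl⟩; simp [h])]
  rw [LinearMap.range_eq_map]
  exact Module.Finite.fg_top.map _

/-- Finite presentation passes to a retract over which the algebra is integral. -/
theorem fp_of_retract {R W T : Type u} [CommRing R] [CommRing W] [CommRing T] [Algebra R W] [Algebra R T]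
    [Algebra W T] [IsScalarTower R W T] [hT : Algebra.FinitePresentation R T] (s : Finset W)
    (hs : ∀ c : T, IsIntegral (Algebra.adjoin R (s : Set W)) c) (π : T →ₗ[W] W)
    (hπ : ∀ q : W, π (algebraMap W T q) = q) :
    Algebra.FinitePresentation R W ∧ Module.FinitePresentation W T := by
  let S := Algebra.adjoin R (s : Set W)
  haveI : Algebra.FiniteType S T := Algebra.FiniteType.of_restrictScalars_finiteType R S T
  haveI : Algebra.IsIntegral S T := ⟨hs⟩
  haveI : Module.Finite S T := Algebra.IsIntegral.finite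
  haveI : Module.Finite S W := Module.Finite.of_surjective (π.restrictScalars S) fun q => ⟨_, hπ q⟩
  haveI : Algebra.FiniteType R S := ⟨(Subalgebra.fg_top S).2 ⟨s, rfl⟩⟩
  haveI : Algebra.FiniteType R W := Algebra.FiniteType.trans (S := S) inferInstance inferInstance
  haveI : Module.Finite W T := Module.Finite.of_restrictScalars_finite S _ _
  haveI : Algebra.FinitePresentation W T := Algebra.FinitePresentation.of_restrict_scalars_finitePresentation R W T
  haveI hWT : Module.FinitePresentation W T := Module.FinitePresentation.of_finite_of_finitePresentation _ _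
  refine ⟨?_, hWT⟩
  obtain ⟨m, g, hg⟩ := Algebra.FiniteType.iff_quotient_mvPolynomial''.1 ‹Algebra.FiniteType R W›
  let Q := MvPolynomial (Fin m) R
  letI : Algebra Q W := g.toRingHom.toAlgebra
  letI : Algebra Q T := ((algebraMap W T).comp g.toRingHom).toAlgebra
  haveI : IsScalarTower Q W T := IsScalarTower.of_algebraMap_eq fun _ => rfl
  haveI : IsScalarTower R Q T := IsScalarTower.of_algebraMap_eq fun r => by
    show _ = algebraMap W T (g (algebraMap R _ r))
    rw [g.commutes]; exact IsScalarTower.algebraMap_apply R W T r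
  haveI : Module.Finite Q W := Module.Finite.of_surjective (Algebra.linearMap _ _) hg
  haveI : Module.Finite Q T := Module.Finite.trans W _
  haveI : Algebra.FinitePresentation Q T := Algebra.FinitePresentation.of_restrict_scalars_finitePresentation R Q T
  haveI : Module.FinitePresentation Q T := Module.FinitePresentation.of_finite_of_finitePresentation _ _
  haveI := fp_summand (π.restrictScalars Q) ((Algebra.linearMap W T).restrictScalars Q) hπ
  exact Algebra.FinitePresentation.of_surjective (f := g) hg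
    (Module.FinitePresentation.fg_ker (Algebra.linearMap Q W) hg)

include hf in
/-- The main finiteness statement. -/
theorem finitePresentation [Algebra.FinitePresentation R A] (he : 0 < e) :
    (toAway hR f).FinitePresentation ∧
      ∀ n : ℤ, Module.FinitePresentation (Away 𝒜 f) (twMod hf he n) := by
  classical
  haveI : Algebra.FinitePresentation R (C f) :=
    Algebra.FinitePresentation.quotient (Submodule.fg_span_singleton (f - 1))
  letI := (toAway hR f).toAlgebra
  letI := algC (𝒜 := 𝒜) f
  haveI : IsScalarTower R (Away 𝒜 f) (C f) := IsScalarTower.of_algebraMap_eq fun r => (phi_toAway hR r).symm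
  obtain ⟨t, ht⟩ := (inferInstance : Algebra.FiniteType R A).out
  let w : A × ℕ → Away 𝒜 f := fun p => Away.mk 𝒜 hf p.2 ((decompose 𝒜 p.1 p.2 : A) ^ e) (by
    have := SetLike.pow_mem_graded e (decompose 𝒜 p.1 p.2).2
    rwa [smul_eq_mul, mul_comm] at this)
  let J := t.biUnion fun a => (decompose 𝒜 a).support.image fun i => (a, i)
  let s : Finset (Away 𝒜 f) := J.image w
  let S := Algebra.adjoin R (s : Set (Away 𝒜 f))
  have hs : ∀ c : C f, IsIntegral S c := fun c => by
    obtain ⟨a, rfl⟩ := Ideal.Quotient.mk_surjective c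
    have ha : a ∈ Algebra.adjoin R (t : Set A) := ht ▸ Algebra.mem_top
    induction ha using Algebra.adjoin_induction with
    | mem a hat =>
      rw [← DirectSum.sum_support_decompose 𝒜 a, map_sum]
      refine IsIntegral.sum _ fun i hi => IsIntegral.of_pow he ?_
      have hw : w (a, i) ∈ S := Algebra.subset_adjoin (Finset.mem_coe.2 (Finset.mem_image_of_mem _
        (Finset.mem_biUnion.2 ⟨a, hat, Finset.mem_image_of_mem _ hi⟩)))
      have : algebraMap S (C f) ⟨w (a, i), hw⟩ = Ideal.Quotient.mk _ (decompose 𝒜 a i : A) ^ e :=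
        (phi_mk hf _).trans (map_pow _ _ _)
      rw [← this]
      exact isIntegral_algebraMap
    | algebraMap r =>
      have : algebraMap S (C f) (algebraMap R S r) = Ideal.Quotient.mk _ (algebraMap R A r) := phi_toAway hR r
      rw [← this]
      exact isIntegral_algebraMap
    | add x y _ _ hx hy => rw [map_add]; exact hx.add hy
    | mul x y _ _ hx hy => rw [map_mul]; exact hx.mul hy
  -- the retraction onto `A_(f)`
  let ι₀ : Away 𝒜 f →ₗ[Away 𝒜 f] L f := Algebra.linearMap (Away 𝒜 f) (L f)
  have hι₀ : Function.Injective ι₀ := HomogeneousLocalization.val_injective _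
  let π₀ : C f →ₗ[Away 𝒜 f] Away 𝒜 f :=
    (LinearEquiv.ofInjective ι₀ hι₀).symm.toLinearMap ∘ₗ (psiL hf he 0).codRestrict (LinearMap.range ι₀)
      (fun c => by obtain ⟨q, hq⟩ := psiC_zero_range hf he c; exact ⟨q, hq⟩)
  have hπ₀ : ∀ q : Away 𝒜 f, π₀ (algebraMap _ (C f) q) = q := fun q => by
    apply (LinearEquiv.ofInjective ι₀ hι₀).injective
    simp only [π₀, LinearMap.comp_apply, LinearEquiv.coe_coe, LinearEquiv.apply_symm_apply]
    exact Subtype.ext (psiC_zero_phi hf he q)
  obtain ⟨hW, hWT⟩ := fp_of_retract (R := R) (T := C f) s hs π₀ hπ₀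
  haveI := hWT
  refine ⟨hW, fun n => ?_⟩
  · have hlin : ∀ (q : Away 𝒜 f) (y : L f), theta f (q • y) = q • theta f y := fun q y => by
      rw [Algebra.smul_def, Algebra.smul_def, map_mul]; rfl
    let ι : twMod hf he n →ₗ[Away 𝒜 f] C f :=
      { toFun := fun y => theta f y.1
        map_add' := fun y z => map_add _ _ _
        map_smul' := fun q y => hlin q y.1 }
    refine fp_summand (psiL hf he n).rangeRestrict ι fun y => ?_
    obtain ⟨c, hc⟩ := y.2
    refine Subtype.ext ?_
    show psiC hf he n (theta f y.1) = y.1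
    rw [← hc]
    exact psiC_theta hf he n c

end Groth.Agent.ProjFP28
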