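import Groth.Agent.ProjFP28.Ring
import Groth.Agent.TwistLib.G.RelTwist
import Groth.Agent.TwistLib.G.Sections
import Groth.Agent.ProjLib.RelProjFinite
import Groth.Agent.EGA43.FPKernel
import Groth.Prelude.Def_CohB1
import Mathlib

/-!
# Finite presentation of relative `Proj` and of its twisting modules
-/

set_option autoImplicit false
set_option linter.style.haveILetI false
set_option linter.unusedSectionVars false
set_option backward.isDefEq.respectTransparency.types false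
set_option maxHeartbeats 1000000
set_option synthInstance.maxHeartbeats 100000

universe u

open CategoryTheory AlgebraicGeometry TopologicalSpace Opposite HomogeneousLocalization
open Groth.Agent.ProjLib

namespace Groth.Agent.ProjFP28

variable {A σ : Type u} [CommRing A] [SetLike σ A] [AddSubgroupClass σ A] {𝒜 : ℕ → σ} [GradedRing 𝒜]
  {e : ℕ} {f : A} (hf : f ∈ 𝒜 e)

/-- The fraction `m / f^k`. -/
noncomputable def fr (f m : A) (k : ℕ) : L f := Localization.mk m ⟨f ^ k, k, rfl⟩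

theorem fr_mul_uf (f m : A) (k : ℕ) : fr f m k * (uf f : L f) ^ k = algebraMap A (L f) m := by
  rw [fr, Localization.mk_eq_mk', coe_uf, ← map_pow]
  exact IsLocalization.mk'_spec (L f) m (⟨f ^ k, k, rfl⟩ : Submonoid.powers f)

include hf in
theorem exists_frac_of_mem (he : 0 < e) (n : ℤ) {y : L f} (hy : y ∈ twMod hf he n) :
    ∃ (k i : ℕ) (m : 𝒜 i), (i : ℤ) = k * e + n ∧ y = fr f m k := by
  obtain ⟨c, rfl⟩ := hy
  obtain ⟨a, rfl⟩ := Ideal.Quotient.mk_surjective c
  show ∃ (k i : ℕ) (m : 𝒜 i), (i : ℤ) = k * e + n ∧ psi 𝒜 f e n a = fr f m k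
  have hzero : ∃ (k i : ℕ) (m : 𝒜 i), (i : ℤ) = k * e + n ∧ (0 : L f) = fr f m k := by
    refine ⟨n.natAbs, ((n.natAbs * e : ℕ) + n).toNat, ⟨0, zero_mem _⟩, ?_, (Localization.mk_zero _).symm⟩
    have : n.natAbs ≤ n.natAbs * e := Nat.le_mul_of_pos_right _ he
    rw [← Nat.cast_mul]
    omega
  induction a using DirectSum.Decomposition.inductionOn (ℳ := 𝒜) with
  | zero => rw [map_zero]; exact hzero
  | @homogeneous i x =>
    rw [psi_of n x.2, coef]
    by_cases h : (e : ℤ) ∣ (i : ℤ) - n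
    · rw [if_pos h]
      obtain ⟨j, hj⟩ := h
      have hdiv : ((i : ℤ) - n) / e = j := by rw [hj, Int.mul_ediv_cancel_left _ (by omega)]
      rw [hdiv]
      refine ⟨j.toNat, i + (-j).toNat * e, ⟨(x : A) * f ^ (-j).toNat,
        SetLike.mul_mem_graded x.2 (SetLike.pow_mem_graded _ hf)⟩, ?_, ?_⟩
      · push_cast
        have h2 : ((j.toNat : ℤ)) = j + ((-j).toNat : ℤ) := by omega
        rw [h2]
        linear_combination hj
      · refine ((uf f ^ j.toNat).isUnit.mul_left_injective ?_)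
        show _ * ((uf f ^ j.toNat : (L f)ˣ) : L f) = _ * ((uf f ^ j.toNat : (L f)ˣ) : L f)
        rw [Units.val_pow_eq_pow_val, fr_mul_uf, map_mul, map_pow, ← coe_uf, ← Units.val_pow_eq_pow_val,
          ← Units.val_pow_eq_pow_val, mul_assoc, ← Units.val_mul, ← zpow_natCast, ← zpow_natCast, ← zpow_add]
        congr 3
        omega
    · rw [if_neg h, mul_zero]; exact hzero
  | add a b ha hb =>
    obtain ⟨k₁, i₁, ⟨m₁, h₁⟩, e₁, r₁⟩ := ha
    obtain ⟨k₂, i₂, ⟨m₂, h₂⟩, e₂, r₂⟩ := hb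
    refine ⟨k₁ + k₂, i₁ + k₂ * e, ⟨m₁ * f ^ k₂ + m₂ * f ^ k₁, add_mem
      (SetLike.mul_mem_graded h₁ (SetLike.pow_mem_graded _ hf)) ?_⟩, by push_cast; linear_combination e₁, ?_⟩
    · have : i₂ + k₁ * e = i₁ + k₂ * e := by
        zify
        linear_combination e₂ - e₁
      exact this ▸ SetLike.mul_mem_graded h₂ (SetLike.pow_mem_graded _ hf)
    · rw [map_add, r₁, r₂, fr, fr, fr, Localization.add_mk]
      refine congrArg₂ Localization.mk ?_ (Subtype.ext ?_)
      · show f ^ k₁ * m₂ + f ^ k₂ * m₁ = _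
        ring
      · show f ^ k₁ * f ^ k₂ = _
        exact (pow_add f k₁ k₂).symm

theorem mem_twMod (he : 0 < e) (n : ℤ) {k i : ℕ} (m : 𝒜 i) (hi : (i : ℤ) = k * e + n) :
    fr f m k ∈ twMod hf he n := by
  refine ⟨Ideal.Quotient.mk _ (m : A), ?_⟩
  show psi 𝒜 f e n (m : A) = _
  rw [psi_of n m.2, coef, if_pos ⟨k, by linear_combination hi⟩,
    show ((i : ℤ) - n) / e = k by rw [show (i : ℤ) - n = e * k by linear_combination hi, Int.mul_ediv_cancel_left _ (by omega)]]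
  refine ((uf f ^ k).isUnit.mul_left_injective ?_)
  show _ * ((uf f ^ k : (L f)ˣ) : L f) = _ * ((uf f ^ k : (L f)ˣ) : L f)
  rw [Units.val_pow_eq_pow_val, fr_mul_uf, mul_assoc, ← Units.val_pow_eq_pow_val, ← Units.val_mul, zpow_neg,
    zpow_natCast, inv_mul_cancel, Units.val_one, mul_one]

/-- The value at a point of `D₊(f)`. -/
noncomputable def beta (x : ProjectiveSpectrum.basicOpen 𝒜 f) : L f →+* GrTwist.Loc 𝒜 x.1 :=
  IsLocalization.map (M := Submonoid.powers f) (T := x.1.1.toIdeal.primeCompl) _ (RingHom.id A)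
    (Submonoid.powers_le.mpr x.2)

theorem beta_fr (x : ProjectiveSpectrum.basicOpen 𝒜 f) (m : A) (k : ℕ) :
    beta x (fr f m k) = Localization.mk m ⟨f ^ k, TwistLib.G.pow_notMem x.2 k⟩ := by
  rw [beta, fr, Localization.mk_eq_mk', IsLocalization.map_mk', Localization.mk_eq_mk']
  rfl

include hf in
theorem finitePresentation_sections {R : Type u} [CommRing R] [Algebra R A]
    (hR : ∀ r : R, algebraMap R A r ∈ 𝒜 0) [Algebra.FinitePresentation R A] (he : 0 < e) (n : ℤ) :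
    Module.FinitePresentation Γ(Proj 𝒜, Proj.basicOpen 𝒜 f) Γ(GrTwist.twist 𝒜 n, Proj.basicOpen 𝒜 f) := by
  let V : Opens (ProjectiveSpectrum.top 𝒜) := ProjectiveSpectrum.basicOpen 𝒜 f
  let a : CommRingCat.of (Away 𝒜 f) ⟶ Γ(Proj 𝒜, Proj.basicOpen 𝒜 f) :=
    (Proj.basicOpenIsoAway 𝒜 f hf he).hom
  let M := Γ(GrTwist.twist 𝒜 n, Proj.basicOpen 𝒜 f)
  letI : Algebra (Away 𝒜 f) Γ(Proj 𝒜, Proj.basicOpen 𝒜 f) := a.hom.toAlgebra
  letI : Module (Away 𝒜 f) M := Module.compHom M a.hom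
  haveI : IsScalarTower (Away 𝒜 f) Γ(Proj 𝒜, Proj.basicOpen 𝒜 f) M := IsScalarTower.of_algebraMap_smul fun _ _ => rfl
  choose k i m hi hy using fun y : twMod hf he n => exists_frac_of_mem hf he n y.2
  let Φ₀ : twMod hf he n → GrTwist.sectN (𝒜 := 𝒜) n (op V) := fun y =>
    TwistLib.G.fracSec n V (m y) ⟨f ^ k y, TwistLib.G.pow_mem_deg hf (k y)⟩
      (fun x => TwistLib.G.pow_notMem x.2 _) (by rw [hi y]; push_cast; ring)
  have hΦ₀ : ∀ (y : twMod hf he n) (x : V), ((Φ₀ y).1 x).1 = beta x y.1 := fun y x => by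
    show Localization.mk _ _ = _
    rw [hy y, beta_fr]
  let Φ : twMod hf he n →ₗ[Away 𝒜 f] M :=
    { toFun := Φ₀
      map_add' := fun y z => TwistLib.G.sectN_ext fun x => by
        show ((Φ₀ (y + z)).1 x).1 = ((Φ₀ y).1 x).1 + ((Φ₀ z).1 x).1
        rw [hΦ₀, hΦ₀, hΦ₀, Submodule.coe_add, map_add]
      map_smul' := fun q y => TwistLib.G.sectN_ext fun x => by
        refine Eq.trans ?_ (GrTwist.coe_smul_val n x.1 ((((ProjectiveSpectrum.Proj.awayToSection 𝒜 f).hom q :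
          GrTwist.O (op V))).1 x) ((Φ₀ y).1 x)).symm
        rw [hΦ₀, hΦ₀, Submodule.coe_smul, Algebra.smul_def, map_mul]
        refine congrArg (· * _) ?_
        exact (ProjectiveSpectrum.Proj.awayToSection_apply 𝒜 f q x).symm }
  have hinj : Function.Injective Φ := by
    refine (injective_iff_map_eq_zero Φ).2 fun y hy0 => ?_
    obtain ⟨N, hN⟩ := TwistLib.G.exists_pow_smul_eq_zero_of_frac (𝒜 := 𝒜) (ℳ := 𝒜) he hf (m y).2 (k := k y)
      fun x => by
        have h : ((Φ₀ y).1 x).1 = 0 := congrArg (fun z : GrTwist.sectN (𝒜 := 𝒜) n (op V) => (z.1 x).1) hy0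
        exact h
    refine Subtype.ext ?_
    show y.1 = 0
    rw [hy y, fr, ← Localization.mk_zero (⟨1, 0, pow_zero f⟩ : Submonoid.powers f), Localization.mk_eq_mk_iff,
      Localization.r_iff_exists]
    refine ⟨⟨f ^ N, N, rfl⟩, ?_⟩
    show f ^ N * (1 * (m y : A)) = f ^ N * (_ * 0)
    rw [mul_zero, mul_zero, one_mul]
    exact hN
  have hsur : Function.Surjective Φ := fun s => by
    obtain ⟨k', i', m', hi', hs⟩ := TwistLib.G.exists_frac (ℳ := 𝒜) he hf
      (TwistLib.G.twistSectEquiv 𝒜 n (op V) s)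
    refine ⟨⟨fr f m' k', mem_twMod hf he n m' hi'⟩, TwistLib.G.sectN_ext fun x => ?_⟩
    refine (hΦ₀ _ x).trans ?_
    rw [beta_fr]
    exact (hs x).symm
  haveI := (finitePresentation hf hR he).2 n
  haveI : Module.FinitePresentation (Away 𝒜 f) M :=
    Module.FinitePresentation.of_equiv (LinearEquiv.ofBijective Φ ⟨hinj, hsur⟩)
  exact EGA43.FlatSyzygy.finitePresentation_of_surjective_algebraMap (Q := Away 𝒜 f)
    (ConcreteCategory.bijective_of_isIso a).2

variable {S P : Scheme.{u}} {𝒮 : RelProj.QCGrAlg S} {p : P ⟶ S}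
  {chart : ∀ (U : S.Opens) (hU : IsAffineOpen U),
    (((p ⁻¹ᵁ U : P.Opens) : Scheme.{u}) ≅ Proj (𝒮.deg U hU))}
  (hP : RelProj.IsRelProj 𝒮 p chart)
  (hfp : ∀ (U : S.Opens), IsAffineOpen U → RingHom.FinitePresentation (𝒮.str.app (op U)).hom)

include hP hfp in
theorem finitePresentation_relProj :
    LocallyOfFinitePresentation p ∧ QuasiCompact p ∧ QuasiSeparated p := by
  refine ⟨property_of_charts hP fun U hU => ?_,
    (finiteType_relProj hP fun U hU => RingHom.FiniteType.of_finitePresentation (hfp U hU)).2, ?_⟩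
  · letI : Algebra Γ(S, U) (𝒮.presheaf.obj (op U)) := (𝒮.str.app (op U)).hom.toAlgebra
    haveI : Algebra.FinitePresentation Γ(S, U) (𝒮.presheaf.obj (op U)) := hfp U hU
    haveI : IsAffine U.toScheme := hU
    rw [HasRingHomProperty.iff_of_source_openCover (P := @LocallyOfFinitePresentation)
      (Proj.affineOpenCover (𝒮.deg U hU)).openCover]
    intro i
    suffices h : LocallyOfFinitePresentation (Proj.awayι (𝒮.deg U hU) i.2.1 i.2.2 i.1.2 ≫ chartBase 𝒮 U hU) by
      exact (HasRingHomProperty.iff_of_isAffine (P := @LocallyOfFinitePresentation)).1 h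
    unfold chartBase
    rw [← Category.assoc, Proj.awayι_toSpecZero, ← Spec.map_comp_assoc]
    haveI : LocallyOfFinitePresentation (Spec.map (𝒮.strZero U hU ≫
        CommRingCat.ofHom (fromZeroRingHom (𝒮.deg U hU) (Submonoid.powers i.2.1)))) :=
      (HasRingHomProperty.Spec_iff (P := @LocallyOfFinitePresentation)).2
        (finitePresentation (R := Γ(S, U)) i.2.2 (fun r => 𝒮.str_mem U hU r) i.1.2).1
    infer_instance
  · haveI : IsSeparated p := isSeparated_relProj hP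
    infer_instance

include hP hfp in
theorem isFP_twist (d : ℤ) (Od : P.Modules)
    (lam : ∀ (U : S.Opens) (hU : IsAffineOpen U),
      Od ⟶ (Scheme.Modules.pushforward (RelProj.emb p chart U hU)).obj (GrTwist.twist (𝒮.deg U hU) d))
    (h : RelProj.IsRelTwist 𝒮 p chart d Od lam) : CohB1.IsFP Od := by
  haveI : Coh.IsQCoh Od := TwistLib.G.isQCoh_of_isRelTwist h
  refine EGA43.FPKernel.isFP_of_forall_exists_affine Od fun x => ?_
  obtain ⟨U, hU, hxU, -⟩ := exists_isAffineOpen_mem_and_subset (x := p x) (U := (⊤ : S.Opens)) trivial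
  let j := RelProj.emb p chart U hU
  obtain ⟨y, hy⟩ : ∃ y, j y = x := by
    refine ⟨(chart U hU).hom ⟨x, hxU⟩, ?_⟩
    show ((chart U hU).inv ≫ (p ⁻¹ᵁ U).ι) ((chart U hU).hom ⟨x, hxU⟩) = x
    rw [Scheme.Hom.comp_apply, ← Scheme.Hom.comp_apply (chart U hU).hom (chart U hU).inv, Iso.hom_inv_id]
    rfl
  obtain ⟨e, g, he, hg, hgy⟩ := TwistLib.G.exists_pos_homogeneous_notMem (𝒮.deg U hU) y
  let D : (Proj (𝒮.deg U hU)).Opens := Proj.basicOpen (𝒮.deg U hU) g
  let W : P.Opens := j ''ᵁ D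
  have hW : W ≤ p ⁻¹ᵁ U := by
    rintro _ ⟨z, -, rfl⟩
    exact ((chart U hU).inv z).2
  refine ⟨W, (Proj.isAffineOpen_basicOpen _ g hg he).image_of_isOpenImmersion j, ⟨y, hgy, hy⟩, ?_⟩
  letI : Algebra Γ(S, U) (𝒮.presheaf.obj (op U)) := (𝒮.str.app (op U)).hom.toAlgebra
  haveI : Algebra.FinitePresentation Γ(S, U) (𝒮.presheaf.obj (op U)) := hfp U hU
  have hD : Module.FinitePresentation Γ(Proj (𝒮.deg U hU), j ⁻¹ᵁ W) Γ(GrTwist.twist (𝒮.deg U hU) d, j ⁻¹ᵁ W) := by
    rw [Scheme.Hom.preimage_image_eq]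
    exact finitePresentation_sections (R := Γ(S, U)) hg (fun r => 𝒮.str_mem U hU r) he d
  let φ : Γ(P, W) →+* Γ(Proj (𝒮.deg U hU), j ⁻¹ᵁ W) := (j.app W).hom
  haveI : IsIso (j.app W) := j.isIso_app W (Set.image_subset_range _ _)
  have hφ : Function.Bijective φ := ConcreteCategory.bijective_of_isIso (j.app W)
  let N := Γ(GrTwist.twist (𝒮.deg U hU) d, j ⁻¹ᵁ W)
  letI : Algebra Γ(P, W) Γ(Proj (𝒮.deg U hU), j ⁻¹ᵁ W) := φ.toAlgebra
  letI : Module Γ(P, W) N := Module.compHom N φ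
  haveI : IsScalarTower Γ(P, W) Γ(Proj (𝒮.deg U hU), j ⁻¹ᵁ W) N := IsScalarTower.of_algebraMap_smul fun _ _ => rfl
  haveI : Module.Finite Γ(P, W) Γ(Proj (𝒮.deg U hU), j ⁻¹ᵁ W) :=
    Module.Finite.of_surjective (Algebra.linearMap _ _) hφ.2
  haveI : Module.FinitePresentation Γ(P, W) Γ(Proj (𝒮.deg U hU), j ⁻¹ᵁ W) :=
    Module.FinitePresentation.of_equiv (LinearEquiv.ofBijective (Algebra.linearMap Γ(P, W) _) hφ)
  haveI := hD
  haveI : Module.FinitePresentation Γ(P, W) N :=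
    Module.FinitePresentation.trans Γ(P, W) N Γ(Proj (𝒮.deg U hU), j ⁻¹ᵁ W)
  let ψ : Γ(Od, W) →ₗ[Γ(P, W)] N :=
    { toFun := fun s => (lam U hU).app W s
      map_add' := fun s t => map_add _ s t
      map_smul' := fun r s => Scheme.Modules.Hom.app_smul (lam U hU) r s }
  exact Module.FinitePresentation.of_equiv (LinearEquiv.ofBijective ψ (h.bijective U hU W hW)).symm

end Groth.Agent.ProjFP28
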